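import Mathlib

set_option autoImplicit false

/-!
# Simplicity of a derived subgroup of index two

If every normal subgroup of a finite group `G` is trivial or contains the derived subgroup `D`,
the index of `D` is two and the order of `D` is not a square, then `D` is simple: a normal
subgroup `N` of `D` and its conjugate `N'` under an element outside `D` have a meet and a join that
are normal in `G`, so that either `N = D` or `D` is the direct product of `N` and `N'`.
-/

namespace Cfsg.Agent.Lib.H17.Fi24S

open MulAction
open scoped Pointwise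

section dich

variable {G : Type*} [Group G]

/-- the Iwasawa criterion: a normal subgroup is trivial or contains the derived subgroup -/
theorem dichotomy_of_iwasawa {X : Type*} [MulAction G X] [IsQuasiPreprimitive G X]
    (IwaS : IwasawaStructure G X) (hf : FaithfulSMul G X) (K : Subgroup G) (hK : K.Normal) :
    K = ⊥ ∨ commutator G ≤ K := by
  cases or_iff_not_imp_left.mpr (IwaS.commutator_le K) with
  | inl h =>
    refine Or.inl (K.eq_bot_iff_forall.mpr fun n hn => ?_)
    apply hf.eq_of_smul_eq_smul
    intro x
    rw [one_smul]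
    exact Set.eq_univ_iff_forall.mp h x ⟨n, hn⟩
  | inr h => exact Or.inr h

theorem conj_smul_eq_of_forall {N : Subgroup G} {d : G} (h1 : ∀ x ∈ N, d * x * d⁻¹ ∈ N)
    (h2 : ∀ x ∈ N, d⁻¹ * x * d ∈ N) : MulAut.conj d • N = N := by
  ext x
  rw [Subgroup.mem_pointwise_smul_iff_inv_smul_mem, MulAut.smul_def, ← map_inv,
    MulAut.conj_apply, inv_inv]
  constructor
  · intro h
    have := h1 _ h
    have e : d * (d⁻¹ * x * d) * d⁻¹ = x := by group
    rwa [e] at this
  · exact h2 x

theorem normal_of_conj_smul_eq (K : Subgroup G) (hK : ∀ b : G, MulAut.conj b • K = K) :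
    K.Normal := by
  refine ⟨fun n hn g => ?_⟩
  have := Subgroup.smul_mem_pointwise_smul n (MulAut.conj g) K hn
  rw [hK g, MulAut.smul_def, MulAut.conj_apply] at this
  exact this

/-- a subgroup of the derived subgroup `D` normalised by `D` is trivial or all of `D` -/
theorem eq_bot_or_eq_commutator [Finite G]
    (hdich : ∀ K : Subgroup G, K.Normal → K = ⊥ ∨ commutator G ≤ K)
    (hidx : (commutator G).index = 2) (hsq : ¬ IsSquare (Nat.card (commutator G)))
    (N₀ : Subgroup G) (hle : N₀ ≤ commutator G)
    (hnorm : ∀ d ∈ commutator G, ∀ x ∈ N₀, d * x * d⁻¹ ∈ N₀) :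
    N₀ = ⊥ ∨ N₀ = commutator G := by
  by_cases h0 : N₀ = ⊥
  · exact Or.inl h0
  right
  obtain ⟨t, ht⟩ : ∃ t : G, t ∉ commutator G := by
    by_contra hcon
    push Not at hcon
    have : commutator G = ⊤ := (Subgroup.eq_top_iff' _).mpr hcon
    rw [this, Subgroup.index_top] at hidx
    norm_num at hidx
  have hDn : (commutator G).Normal := inferInstance
  have hfix : ∀ d ∈ commutator G, MulAut.conj d • N₀ = N₀ := fun d hd =>
    conj_smul_eq_of_forall (hnorm d hd) (by
      intro x hx
      have := hnorm d⁻¹ (inv_mem hd) x hx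
      rwa [inv_inv] at this)
  have hfix1 : ∀ b ∈ commutator G, MulAut.conj b • (MulAut.conj t • N₀) = MulAut.conj t • N₀ := by
    intro b hb
    have h1 : t⁻¹ * b * t ∈ commutator G := by
      have := hDn.conj_mem b hb t⁻¹
      rwa [inv_inv] at this
    rw [smul_smul, ← map_mul]
    have : b * t = t * (t⁻¹ * b * t) := by group
    rw [this, map_mul, ← smul_smul, hfix _ h1]
  have hout : ∀ b, b ∉ commutator G → MulAut.conj b • N₀ = MulAut.conj t • N₀ ∧
      MulAut.conj b • (MulAut.conj t • N₀) = N₀ := by
    intro b hb
    have h1 : t⁻¹ * b ∈ commutator G := by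
      rw [Subgroup.mul_mem_iff_of_index_two hidx]
      constructor
      · intro h; exact absurd (inv_mem_iff.mp h) ht
      · intro h; exact absurd h hb
    have h2 : b * t ∈ commutator G := by
      rw [Subgroup.mul_mem_iff_of_index_two hidx]
      exact ⟨fun h => absurd h hb, fun h => absurd h ht⟩
    constructor
    · have : b = t * (t⁻¹ * b) := by group
      conv_lhs => rw [this, map_mul, ← smul_smul, hfix _ h1]
    · rw [smul_smul, ← map_mul, hfix _ h2]
  have hinv : ∀ b : G, MulAut.conj b • (N₀ ⊓ MulAut.conj t • N₀) = N₀ ⊓ MulAut.conj t • N₀ ∧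
      MulAut.conj b • (N₀ ⊔ MulAut.conj t • N₀) = N₀ ⊔ MulAut.conj t • N₀ := by
    intro b
    by_cases hb : b ∈ commutator G
    · rw [Subgroup.smul_inf, Subgroup.smul_sup, hfix b hb, hfix1 b hb]
      exact ⟨rfl, rfl⟩
    · obtain ⟨h1, h2⟩ := hout b hb
      rw [Subgroup.smul_inf, Subgroup.smul_sup, h1, h2, inf_comm, sup_comm]
      exact ⟨rfl, rfl⟩
  have hIn := normal_of_conj_smul_eq _ (fun b => (hinv b).1)
  have hJn := normal_of_conj_smul_eq _ (fun b => (hinv b).2)
  have hN₁le : MulAut.conj t • N₀ ≤ commutator G := by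
    have : MulAut.conj t • commutator G = commutator G :=
      Subgroup.Normal.conj_smul_eq_self t (commutator G)
    rw [← this]
    exact Subgroup.pointwise_smul_le_pointwise_smul_iff.mpr hle
  have hJ : N₀ ⊔ MulAut.conj t • N₀ = commutator G := by
    apply le_antisymm (sup_le hle hN₁le)
    rcases hdich _ hJn with h | h
    · exfalso
      apply h0
      rw [eq_bot_iff, ← h]
      exact le_sup_left
    · exact h
  rcases hdich _ hIn with hI | hI
  · exfalso
    have hdisj : Disjoint N₀ (MulAut.conj t • N₀) := disjoint_iff.mpr hI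
    have hinj := Subgroup.mul_injective_of_disjoint hdisj
    have hnormalizer : N₀ ≤ Subgroup.normalizer (MulAut.conj t • N₀ : Subgroup G) := by
      intro b hb
      rw [Subgroup.mem_normalizer_iff]
      intro x
      have h1 := hfix1 b (hle hb)
      have h2 := hfix1 b⁻¹ (inv_mem (hle hb))
      constructor
      · intro hx
        have := Subgroup.smul_mem_pointwise_smul x (MulAut.conj b) _ hx
        rw [h1, MulAut.smul_def, MulAut.conj_apply] at this
        exact this
      · intro hx
        have := Subgroup.smul_mem_pointwise_smul _ (MulAut.conj b⁻¹) _ hx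
        rw [h2, MulAut.smul_def, MulAut.conj_apply, inv_inv] at this
        have e : b⁻¹ * (b * x * b⁻¹) * b = x := by group
        rwa [e] at this
    have hset := Subgroup.coe_mul_of_left_le_normalizer_right N₀ (MulAut.conj t • N₀) hnormalizer
    rw [hJ] at hset
    let f : N₀ × (MulAut.conj t • N₀ : Subgroup G) → commutator G := fun p =>
      ⟨(p.1 : G) * p.2, by
        rw [← hJ]
        exact mul_mem (Subgroup.mem_sup_left p.1.2) (Subgroup.mem_sup_right p.2.2)⟩
    have hfinj : Function.Injective f := by
      intro p q hpq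
      apply hinj
      exact congrArg Subtype.val hpq
    have hfsurj : Function.Surjective f := by
      intro d
      have : (d : G) ∈ ((commutator G : Subgroup G) : Set G) := d.2
      rw [hset] at this
      obtain ⟨x, hx, y, hy, hxy⟩ := this
      exact ⟨(⟨x, hx⟩, ⟨y, hy⟩), Subtype.ext hxy⟩
    have hcard : Nat.card (commutator G) =
        Nat.card N₀ * Nat.card (MulAut.conj t • N₀ : Subgroup G) := by
      rw [← Nat.card_prod]
      exact (Nat.card_congr (Equiv.ofBijective f ⟨hfinj, hfsurj⟩)).symm
    have hc2 : Nat.card (MulAut.conj t • N₀ : Subgroup G) = Nat.card N₀ :=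
      (Nat.card_congr (Subgroup.equivSMul (MulAut.conj t) N₀).toEquiv).symm
    rw [hc2] at hcard
    exact hsq ⟨_, hcard⟩
  · exact le_antisymm hle (le_trans hI inf_le_left)

/-- **the derived subgroup is simple** -/
theorem isSimpleGroup_commutator [Finite G]
    (hdich : ∀ K : Subgroup G, K.Normal → K = ⊥ ∨ commutator G ≤ K)
    (hidx : (commutator G).index = 2) (hsq : ¬ IsSquare (Nat.card (commutator G))) :
    IsSimpleGroup (commutator G) := by
  have hnt : Nontrivial (commutator G) := by
    rw [← Finite.one_lt_card_iff_nontrivial]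
    by_contra h
    have hpos : 0 < Nat.card (commutator G) := Nat.card_pos
    have h1 : Nat.card (commutator G) = 1 := by omega
    exact hsq ⟨1, by rw [h1]⟩
  refine { exists_pair_ne := hnt.exists_pair_ne, eq_bot_or_eq_top_of_normal := ?_ }
  intro N hN
  have h := eq_bot_or_eq_commutator hdich hidx hsq (N.map (commutator G).subtype)
    (Subgroup.map_subtype_le N) (by
      intro d hd x hx
      obtain ⟨y, hy, rfl⟩ := Subgroup.mem_map.mp hx
      refine Subgroup.mem_map.mpr ⟨⟨d, hd⟩ * y * ⟨d, hd⟩⁻¹, hN.conj_mem y hy ⟨d, hd⟩, ?_⟩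
      simp)
  rcases h with h | h
  · left
    exact (Subgroup.map_eq_bot_iff_of_injective N (Subgroup.subtype_injective _)).mp h
  · right
    rw [eq_top_iff]
    intro y _
    have hy : (y : G) ∈ N.map (commutator G).subtype := by rw [h]; exact y.2
    obtain ⟨z, hz, hzy⟩ := Subgroup.mem_map.mp hy
    have : z = y := Subtype.ext hzy
    rwa [this] at hz

end dich

end Cfsg.Agent.Lib.H17.Fi24S
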