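import Cfsg.Agent.Lib.H6.PermFast

set_option autoImplicit false

/-!
# Connecting points to representatives with a label table

`L i` packs a label (the two lowest bits) and a rank.  The check verifies that a point whose
value of `L` is below `4` is the representative of its label, and that every other point is
mapped by one of the given letters to a point with the same label and a smaller value of `L`.
Consequently the subgroup generated by the letters maps every point to the representative of its
label.
-/

namespace Cfsg.Agent.Lib.H17.Fi24S.OrbChk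

open Cfsg.Agent.Lib.H17.CosetCert

section tables

variable (T : ℕ → ℕ → ℕ) (L : ℕ → ℕ) (rep : ℕ → ℕ)

/-- some letter of `gs` maps `i` to a point with the same label and a smaller value of `L` -/
noncomputable def anyDown (gs : List ℕ) (i li : ℕ) : Bool :=
  List.rec (motive := fun _ => Bool) false
    (fun x _ ih => force (L (T x i)) fun lj =>
      cond (Nat.blt lj li) (cond (Nat.beq (Nat.land lj 3) (Nat.land li 3)) true ih) ih) gs

theorem anyDown_sound (gs : List ℕ) (i li : ℕ) (h : anyDown T L gs i li = true) :
    ∃ x ∈ gs, L (T x i) < li ∧ Nat.land (L (T x i)) 3 = Nat.land li 3 := by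
  induction gs with
  | nil => exact absurd h (by simp [anyDown])
  | cons x gs ih =>
    have h' : force (L (T x i)) (fun lj =>
        cond (Nat.blt lj li) (cond (Nat.beq (Nat.land lj 3) (Nat.land li 3)) true
          (anyDown T L gs i li)) (anyDown T L gs i li)) = true := h
    rw [force_eq] at h'
    cases hb : Nat.blt (L (T x i)) li with
    | false =>
      rw [hb] at h'
      obtain ⟨y, hy, h1, h2⟩ := ih h'
      exact ⟨y, List.mem_cons_of_mem _ hy, h1, h2⟩
    | true =>
      rw [hb] at h'
      cases hc : Nat.beq (Nat.land (L (T x i)) 3) (Nat.land li 3) with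
      | false =>
        rw [hc] at h'
        obtain ⟨y, hy, h1, h2⟩ := ih h'
        exact ⟨y, List.mem_cons_of_mem _ hy, h1, h2⟩
      | true =>
        refine ⟨x, List.mem_cons_self, ?_, Nat.eq_of_beq_eq_true hc⟩
        simpa [Nat.blt_eq] using hb

/-- the check at the points `lo, …, lo + n - 1` -/
noncomputable def checkOrb (gs : List ℕ) (lo n : ℕ) : Bool :=
  Nat.rec (motive := fun _ => Bool) true
    (fun k ih => force (Nat.add lo k) fun i => force (L i) fun li =>
      cond (Nat.blt li 4) (cond (Nat.beq i (rep li)) ih false)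
        (cond (anyDown T L gs i li) ih false)) n

/-- what the check proves at a point -/
def OkAt (gs : List ℕ) (i : ℕ) : Prop :=
  (L i < 4 → i = rep (L i)) ∧
    (¬ L i < 4 → ∃ x ∈ gs, L (T x i) < L i ∧ Nat.land (L (T x i)) 3 = Nat.land (L i) 3)

theorem checkOrb_sound (gs : List ℕ) (lo n : ℕ) (h : checkOrb T L rep gs lo n = true) :
    ∀ i, lo ≤ i → i < lo + n → OkAt T L rep gs i := by
  induction n with
  | zero => intro i h1 h2; omega
  | succ n ih =>
    have h' : force (Nat.add lo n) (fun i => force (L i) fun li =>
      cond (Nat.blt li 4) (cond (Nat.beq i (rep li)) (checkOrb T L rep gs lo n) false)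
        (cond (anyDown T L gs i li) (checkOrb T L rep gs lo n) false)) = true := h
    rw [force_eq, force_eq] at h'
    have hrest : checkOrb T L rep gs lo n = true := by
      cases hb : Nat.blt (L (Nat.add lo n)) 4 with
      | true =>
        rw [hb] at h'
        cases hc : Nat.beq (Nat.add lo n) (rep (L (Nat.add lo n))) with
        | true => rw [hc] at h'; exact h'
        | false => rw [hc] at h'; exact absurd h' (by simp)
      | false =>
        rw [hb] at h'
        cases hc : anyDown T L gs (Nat.add lo n) (L (Nat.add lo n)) with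
        | true => rw [hc] at h'; exact h'
        | false => rw [hc] at h'; exact absurd h' (by simp)
    intro i h1 h2
    rcases Nat.lt_succ_iff_lt_or_eq.mp (show i < (lo + n) + 1 by omega) with hlt | rfl
    · exact ih hrest i h1 hlt
    · change OkAt T L rep gs (Nat.add lo n)
      cases hb : Nat.blt (L (Nat.add lo n)) 4 with
      | true =>
        rw [hb] at h'
        have hlt : L (Nat.add lo n) < 4 := by simpa [Nat.blt_eq] using hb
        cases hc : Nat.beq (Nat.add lo n) (rep (L (Nat.add lo n))) with
        | true => exact ⟨fun _ => Nat.eq_of_beq_eq_true hc, fun hn => absurd hlt hn⟩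
        | false => rw [hc] at h'; exact absurd h' (by simp)
      | false =>
        rw [hb] at h'
        have hnlt : ¬ L (Nat.add lo n) < 4 := by
          intro hlt
          have : Nat.blt (L (Nat.add lo n)) 4 = true := by simpa [Nat.blt_eq] using hlt
          rw [this] at hb
          exact absurd hb (by simp)
        cases hc : anyDown T L gs (Nat.add lo n) (L (Nat.add lo n)) with
        | true => exact ⟨fun hlt => absurd hlt hnlt, fun _ => anyDown_sound T L gs _ _ hc⟩
        | false => rw [hc] at h'; exact absurd h' (by simp)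

end tables

section group

variable (T : ℕ → ℕ → ℕ) (L : ℕ → ℕ) (rep : ℕ → ℕ)

theorem land_three_of_lt (m : ℕ) (h : m < 4) : Nat.land m 3 = m := by
  interval_cases m <;> rfl

/-- the subgroup generated by the letters maps every point to the representative of its label -/
theorem conn_of_check {G : Type*} [Group G] (n : ℕ) (φ : G →* Equiv.Perm (Fin n))
    (Hs : Subgroup G) (gs : List ℕ)
    (hgen : ∀ x ∈ gs, ∃ g ∈ Hs, ∀ i : Fin n, ((φ g i : Fin n) : ℕ) = T x i)
    (hchk : ∀ i < n, OkAt T L rep gs i) :
    ∀ i : Fin n, ∃ h ∈ Hs, ((φ h i : Fin n) : ℕ) = rep (Nat.land (L i) 3) := by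
  have key : ∀ r : ℕ, ∀ i : Fin n, L i = r →
      ∃ h ∈ Hs, ((φ h i : Fin n) : ℕ) = rep (Nat.land (L i) 3) := by
    intro r
    induction r using Nat.strong_induction_on with
    | _ r ih =>
      intro i hir
      obtain ⟨h1, h2⟩ := hchk i i.2
      by_cases hlt : L i < 4
      · refine ⟨1, one_mem _, ?_⟩
        rw [map_one, land_three_of_lt _ hlt]
        exact h1 hlt
      · obtain ⟨x, hx, hdown, hlab⟩ := h2 hlt
        obtain ⟨g, hg, hgi⟩ := hgen x hx
        have hj : L ((φ g i : Fin n) : ℕ) < r := by rw [hgi, ← hir]; exact hdown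
        obtain ⟨h', hh', hh'j⟩ := ih _ hj (φ g i) rfl
        refine ⟨h' * g, mul_mem hh' hg, ?_⟩
        rw [map_mul, Equiv.Perm.mul_apply, hh'j, hgi, hlab]
  intro i
  exact key _ i rfl

/-- points with the same label are conjugate under the subgroup -/
theorem trans_of_conn {G : Type*} [Group G] (n : ℕ) (φ : G →* Equiv.Perm (Fin n))
    (Hs : Subgroup G)
    (hconn : ∀ i : Fin n, ∃ h ∈ Hs, ((φ h i : Fin n) : ℕ) = rep (Nat.land (L i) 3))
    (x y : Fin n) (hxy : Nat.land (L x) 3 = Nat.land (L y) 3) :
    ∃ h ∈ Hs, φ h x = y := by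
  obtain ⟨h1, hh1, e1⟩ := hconn x
  obtain ⟨h2, hh2, e2⟩ := hconn y
  refine ⟨h2⁻¹ * h1, mul_mem (inv_mem hh2) hh1, ?_⟩
  rw [map_mul, map_inv, Equiv.Perm.mul_apply, Equiv.Perm.inv_eq_iff_eq]
  apply Fin.ext
  rw [e1, e2, hxy]

end group

end Cfsg.Agent.Lib.H17.Fi24S.OrbChk
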