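import Cfsg.Agent.Lib.H17.Fi24S.LabTab
import Cfsg.Agent.Lib.H17.Fi24S.OrbChk
import Cfsg.Agent.Lib.H6.FiPerm.Tab

set_option autoImplicit false
set_option maxRecDepth 1000000

/-! # label checks, part 13 (generated) -/

namespace Cfsg.Agent.Lib.H17.Fi24S

open Cfsg.Agent.Lib.H17.CosetCert Cfsg.Agent.Lib.H6.FiPerm

set_option maxHeartbeats 0 in
theorem ochk65 : OrbChk.checkOrb T Lb rep gsH 266240 4096 = true := by
  decide +kernel

set_option maxHeartbeats 0 in
theorem ochk66 : OrbChk.checkOrb T Lb rep gsH 270336 4096 = true := by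
  decide +kernel

set_option maxHeartbeats 0 in
theorem ochk67 : OrbChk.checkOrb T Lb rep gsH 274432 4096 = true := by
  decide +kernel

set_option maxHeartbeats 0 in
theorem ochk68 : OrbChk.checkOrb T Lb rep gsH 278528 4096 = true := by
  decide +kernel

set_option maxHeartbeats 0 in
theorem ochk69 : OrbChk.checkOrb T Lb rep gsH 282624 4096 = true := by
  decide +kernel

end Cfsg.Agent.Lib.H17.Fi24S
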