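import Cfsg.Agent.Lib.H17.Fi24S.LabChk0
import Cfsg.Agent.Lib.H17.Fi24S.LabChk1
import Cfsg.Agent.Lib.H17.Fi24S.LabChk2
import Cfsg.Agent.Lib.H17.Fi24S.LabChk3
import Cfsg.Agent.Lib.H17.Fi24S.LabChk4
import Cfsg.Agent.Lib.H17.Fi24S.LabChk5
import Cfsg.Agent.Lib.H17.Fi24S.LabChk6
import Cfsg.Agent.Lib.H17.Fi24S.LabChk7
import Cfsg.Agent.Lib.H17.Fi24S.LabChk8
import Cfsg.Agent.Lib.H17.Fi24S.LabChk9
import Cfsg.Agent.Lib.H17.Fi24S.LabChk10
import Cfsg.Agent.Lib.H17.Fi24S.LabChk11
import Cfsg.Agent.Lib.H17.Fi24S.LabChk12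
import Cfsg.Agent.Lib.H17.Fi24S.LabChk13
import Cfsg.Agent.Lib.H17.Fi24S.LabChk14

set_option autoImplicit false
set_option maxRecDepth 1000000

/-! # the label checks at all points (generated) -/

namespace Cfsg.Agent.Lib.H17.Fi24S

open Cfsg.Agent.Lib.H17.CosetCert Cfsg.Agent.Lib.H6.FiPerm

set_option maxHeartbeats 0 in
theorem okAt_all : ∀ i < 306936, OrbChk.OkAt T Lb rep gsH i := by
  intro i hi
  have hk : i / 4096 < 75 := by omega
  have h1 : i / 4096 * 4096 ≤ i := Nat.div_mul_le_self i 4096
  have h2 : i < i / 4096 * 4096 + 4096 := by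
    have := Nat.lt_div_mul_add (a := i) (b := 4096) (by norm_num); omega
  generalize i / 4096 = k at hk h1 h2
  interval_cases k
  · exact OrbChk.checkOrb_sound T Lb rep gsH 0 4096 ochk0 i (by omega) (by omega)
  · exact OrbChk.checkOrb_sound T Lb rep gsH 4096 4096 ochk1 i (by omega) (by omega)
  · exact OrbChk.checkOrb_sound T Lb rep gsH 8192 4096 ochk2 i (by omega) (by omega)
  · exact OrbChk.checkOrb_sound T Lb rep gsH 12288 4096 ochk3 i (by omega) (by omega)
  · exact OrbChk.checkOrb_sound T Lb rep gsH 16384 4096 ochk4 i (by omega) (by omega)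
  · exact OrbChk.checkOrb_sound T Lb rep gsH 20480 4096 ochk5 i (by omega) (by omega)
  · exact OrbChk.checkOrb_sound T Lb rep gsH 24576 4096 ochk6 i (by omega) (by omega)
  · exact OrbChk.checkOrb_sound T Lb rep gsH 28672 4096 ochk7 i (by omega) (by omega)
  · exact OrbChk.checkOrb_sound T Lb rep gsH 32768 4096 ochk8 i (by omega) (by omega)
  · exact OrbChk.checkOrb_sound T Lb rep gsH 36864 4096 ochk9 i (by omega) (by omega)
  · exact OrbChk.checkOrb_sound T Lb rep gsH 40960 4096 ochk10 i (by omega) (by omega)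
  · exact OrbChk.checkOrb_sound T Lb rep gsH 45056 4096 ochk11 i (by omega) (by omega)
  · exact OrbChk.checkOrb_sound T Lb rep gsH 49152 4096 ochk12 i (by omega) (by omega)
  · exact OrbChk.checkOrb_sound T Lb rep gsH 53248 4096 ochk13 i (by omega) (by omega)
  · exact OrbChk.checkOrb_sound T Lb rep gsH 57344 4096 ochk14 i (by omega) (by omega)
  · exact OrbChk.checkOrb_sound T Lb rep gsH 61440 4096 ochk15 i (by omega) (by omega)
  · exact OrbChk.checkOrb_sound T Lb rep gsH 65536 4096 ochk16 i (by omega) (by omega)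
  · exact OrbChk.checkOrb_sound T Lb rep gsH 69632 4096 ochk17 i (by omega) (by omega)
  · exact OrbChk.checkOrb_sound T Lb rep gsH 73728 4096 ochk18 i (by omega) (by omega)
  · exact OrbChk.checkOrb_sound T Lb rep gsH 77824 4096 ochk19 i (by omega) (by omega)
  · exact OrbChk.checkOrb_sound T Lb rep gsH 81920 4096 ochk20 i (by omega) (by omega)
  · exact OrbChk.checkOrb_sound T Lb rep gsH 86016 4096 ochk21 i (by omega) (by omega)
  · exact OrbChk.checkOrb_sound T Lb rep gsH 90112 4096 ochk22 i (by omega) (by omega)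
  · exact OrbChk.checkOrb_sound T Lb rep gsH 94208 4096 ochk23 i (by omega) (by omega)
  · exact OrbChk.checkOrb_sound T Lb rep gsH 98304 4096 ochk24 i (by omega) (by omega)
  · exact OrbChk.checkOrb_sound T Lb rep gsH 102400 4096 ochk25 i (by omega) (by omega)
  · exact OrbChk.checkOrb_sound T Lb rep gsH 106496 4096 ochk26 i (by omega) (by omega)
  · exact OrbChk.checkOrb_sound T Lb rep gsH 110592 4096 ochk27 i (by omega) (by omega)
  · exact OrbChk.checkOrb_sound T Lb rep gsH 114688 4096 ochk28 i (by omega) (by omega)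
  · exact OrbChk.checkOrb_sound T Lb rep gsH 118784 4096 ochk29 i (by omega) (by omega)
  · exact OrbChk.checkOrb_sound T Lb rep gsH 122880 4096 ochk30 i (by omega) (by omega)
  · exact OrbChk.checkOrb_sound T Lb rep gsH 126976 4096 ochk31 i (by omega) (by omega)
  · exact OrbChk.checkOrb_sound T Lb rep gsH 131072 4096 ochk32 i (by omega) (by omega)
  · exact OrbChk.checkOrb_sound T Lb rep gsH 135168 4096 ochk33 i (by omega) (by omega)
  · exact OrbChk.checkOrb_sound T Lb rep gsH 139264 4096 ochk34 i (by omega) (by omega)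
  · exact OrbChk.checkOrb_sound T Lb rep gsH 143360 4096 ochk35 i (by omega) (by omega)
  · exact OrbChk.checkOrb_sound T Lb rep gsH 147456 4096 ochk36 i (by omega) (by omega)
  · exact OrbChk.checkOrb_sound T Lb rep gsH 151552 4096 ochk37 i (by omega) (by omega)
  · exact OrbChk.checkOrb_sound T Lb rep gsH 155648 4096 ochk38 i (by omega) (by omega)
  · exact OrbChk.checkOrb_sound T Lb rep gsH 159744 4096 ochk39 i (by omega) (by omega)
  · exact OrbChk.checkOrb_sound T Lb rep gsH 163840 4096 ochk40 i (by omega) (by omega)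
  · exact OrbChk.checkOrb_sound T Lb rep gsH 167936 4096 ochk41 i (by omega) (by omega)
  · exact OrbChk.checkOrb_sound T Lb rep gsH 172032 4096 ochk42 i (by omega) (by omega)
  · exact OrbChk.checkOrb_sound T Lb rep gsH 176128 4096 ochk43 i (by omega) (by omega)
  · exact OrbChk.checkOrb_sound T Lb rep gsH 180224 4096 ochk44 i (by omega) (by omega)
  · exact OrbChk.checkOrb_sound T Lb rep gsH 184320 4096 ochk45 i (by omega) (by omega)
  · exact OrbChk.checkOrb_sound T Lb rep gsH 188416 4096 ochk46 i (by omega) (by omega)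
  · exact OrbChk.checkOrb_sound T Lb rep gsH 192512 4096 ochk47 i (by omega) (by omega)
  · exact OrbChk.checkOrb_sound T Lb rep gsH 196608 4096 ochk48 i (by omega) (by omega)
  · exact OrbChk.checkOrb_sound T Lb rep gsH 200704 4096 ochk49 i (by omega) (by omega)
  · exact OrbChk.checkOrb_sound T Lb rep gsH 204800 4096 ochk50 i (by omega) (by omega)
  · exact OrbChk.checkOrb_sound T Lb rep gsH 208896 4096 ochk51 i (by omega) (by omega)
  · exact OrbChk.checkOrb_sound T Lb rep gsH 212992 4096 ochk52 i (by omega) (by omega)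
  · exact OrbChk.checkOrb_sound T Lb rep gsH 217088 4096 ochk53 i (by omega) (by omega)
  · exact OrbChk.checkOrb_sound T Lb rep gsH 221184 4096 ochk54 i (by omega) (by omega)
  · exact OrbChk.checkOrb_sound T Lb rep gsH 225280 4096 ochk55 i (by omega) (by omega)
  · exact OrbChk.checkOrb_sound T Lb rep gsH 229376 4096 ochk56 i (by omega) (by omega)
  · exact OrbChk.checkOrb_sound T Lb rep gsH 233472 4096 ochk57 i (by omega) (by omega)
  · exact OrbChk.checkOrb_sound T Lb rep gsH 237568 4096 ochk58 i (by omega) (by omega)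
  · exact OrbChk.checkOrb_sound T Lb rep gsH 241664 4096 ochk59 i (by omega) (by omega)
  · exact OrbChk.checkOrb_sound T Lb rep gsH 245760 4096 ochk60 i (by omega) (by omega)
  · exact OrbChk.checkOrb_sound T Lb rep gsH 249856 4096 ochk61 i (by omega) (by omega)
  · exact OrbChk.checkOrb_sound T Lb rep gsH 253952 4096 ochk62 i (by omega) (by omega)
  · exact OrbChk.checkOrb_sound T Lb rep gsH 258048 4096 ochk63 i (by omega) (by omega)
  · exact OrbChk.checkOrb_sound T Lb rep gsH 262144 4096 ochk64 i (by omega) (by omega)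
  · exact OrbChk.checkOrb_sound T Lb rep gsH 266240 4096 ochk65 i (by omega) (by omega)
  · exact OrbChk.checkOrb_sound T Lb rep gsH 270336 4096 ochk66 i (by omega) (by omega)
  · exact OrbChk.checkOrb_sound T Lb rep gsH 274432 4096 ochk67 i (by omega) (by omega)
  · exact OrbChk.checkOrb_sound T Lb rep gsH 278528 4096 ochk68 i (by omega) (by omega)
  · exact OrbChk.checkOrb_sound T Lb rep gsH 282624 4096 ochk69 i (by omega) (by omega)
  · exact OrbChk.checkOrb_sound T Lb rep gsH 286720 4096 ochk70 i (by omega) (by omega)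
  · exact OrbChk.checkOrb_sound T Lb rep gsH 290816 4096 ochk71 i (by omega) (by omega)
  · exact OrbChk.checkOrb_sound T Lb rep gsH 294912 4096 ochk72 i (by omega) (by omega)
  · exact OrbChk.checkOrb_sound T Lb rep gsH 299008 4096 ochk73 i (by omega) (by omega)
  · exact OrbChk.checkOrb_sound T Lb rep gsH 303104 3832 ochk74 i (by omega) (by omega)

end Cfsg.Agent.Lib.H17.Fi24S
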