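import Mathlib

set_option autoImplicit false

/-!
# Primitivity of a rank three action from witnesses

A transitive action whose point stabiliser is transitive on each of two sets covering the other
points is primitive as soon as neither of the two sets, together with the base point, can be a
block; this is witnessed by a group element each.
-/

namespace Cfsg.Agent.Lib.H17.Fi24S

open MulAction
open scoped Pointwise

theorem isPreprimitive_of_two_suborbits {G X : Type*} [Group G] [MulAction G X]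
    [IsPretransitive G X] (a : X) (O1 O2 : Set X)
    (hcover : ∀ x, x ≠ a → x ∈ O1 ∨ x ∈ O2)
    (ht1 : ∀ x ∈ O1, ∀ y ∈ O1, ∃ g : G, g • a = a ∧ g • x = y)
    (ht2 : ∀ x ∈ O2, ∀ y ∈ O2, ∃ g : G, g • a = a ∧ g • x = y)
    (hw1 : ∃ (g : G) (b b' : X), (b = a ∨ b ∈ O1) ∧ (b' = a ∨ b' ∈ O1) ∧
      (g • b = a ∨ g • b ∈ O1) ∧ g • b' ∈ O2)
    (hw2 : ∃ (g : G) (b b' : X), (b = a ∨ b ∈ O2) ∧ (b' = a ∨ b' ∈ O2) ∧
      (g • b = a ∨ g • b ∈ O2) ∧ g • b' ∈ O1) :
    IsPreprimitive G X := by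
  apply IsPreprimitive.of_isTrivialBlock_base a
  intro B haB hB
  have hinv : ∀ g : G, g • a = a → ∀ x ∈ B, g • x ∈ B := by
    intro g hg x hx
    have h1 : g ∈ stabilizer G B := hB.stabilizer_le haB (mem_stabilizer_iff.mpr hg)
    have h2 : g • B = B := mem_stabilizer_iff.mp h1
    rw [← h2]
    exact Set.smul_mem_smul_set hx
  have full : ∀ O : Set X, (∀ x ∈ O, ∀ y ∈ O, ∃ g : G, g • a = a ∧ g • x = y) →
      (∃ x ∈ O, x ∈ B) → ∀ y ∈ O, y ∈ B := by
    intro O hO ⟨x, hxO, hxB⟩ y hy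
    obtain ⟨g, hg, rfl⟩ := hO x hxO y hy
    exact hinv g hg x hxB
  have witness : ∀ O O' : Set X, (∀ y ∈ O, y ∈ B) → (¬ ∃ x ∈ O', x ∈ B) →
      (∃ (g : G) (b b' : X), (b = a ∨ b ∈ O) ∧ (b' = a ∨ b' ∈ O) ∧
        (g • b = a ∨ g • b ∈ O) ∧ g • b' ∈ O') → False := by
    intro O O' hO hO' ⟨g, b, b', hb, hb', hgb, hgb'⟩
    have hsub : ∀ y, (y = a ∨ y ∈ O) → y ∈ B := by
      rintro y (rfl | hy)
      · exact haB
      · exact hO y hy
    have hgB : g • B = B := hB.smul_eq_of_mem (hsub b hb) (hsub _ hgb)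
    have : g • b' ∈ B := by
      rw [← hgB]
      exact Set.smul_mem_smul_set (hsub b' hb')
    exact hO' ⟨_, hgb', this⟩
  by_cases h1 : ∃ x ∈ O1, x ∈ B
  · by_cases h2 : ∃ x ∈ O2, x ∈ B
    · right
      rw [Set.eq_univ_iff_forall]
      intro x
      by_cases hxa : x = a
      · rw [hxa]; exact haB
      · rcases hcover x hxa with hx | hx
        · exact full O1 ht1 h1 x hx
        · exact full O2 ht2 h2 x hx
    · exact absurd (witness O1 O2 (full O1 ht1 h1) h2 hw1) id
  · by_cases h2 : ∃ x ∈ O2, x ∈ B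
    · exact absurd (witness O2 O1 (full O2 ht2 h2) h1 hw2) id
    · left
      intro x hx y hy
      have hxa : x = a := by
        by_contra hne
        rcases hcover x hne with h | h
        · exact h1 ⟨x, h, hx⟩
        · exact h2 ⟨x, h, hx⟩
      have hya : y = a := by
        by_contra hne
        rcases hcover y hne with h | h
        · exact h1 ⟨y, h, hy⟩
        · exact h2 ⟨y, h, hy⟩
      rw [hxa, hya]

end Cfsg.Agent.Lib.H17.Fi24S
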