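import Cfsg.Agent.Lib.H17.Fi24S.Sub
import Cfsg.Agent.Lib.H17.Fi24S.LabGood
import Cfsg.Agent.Lib.H17.Fi24S.Prim2
import Cfsg.Agent.Lib.H17.Fi24S.DerivedSimple
import Cfsg.Agent.Lib.H17.Iwa

set_option autoImplicit false
set_option maxRecDepth 100000

/-!
# `Fi₂₄'` is simple

The presented `Fi₂₄` acts primitively and faithfully on `306936` points, with an Iwasawa structure
given by the centres of the point stabilisers; hence every normal subgroup is trivial or contains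
the derived subgroup, which has index two and an order that is not a square.
-/

namespace Cfsg.Agent.Lib.H17.Fi24S

open Cfsg.Agent.Lib.H6.FiIndex MulAction

/-- the action on the points -/
noncomputable local instance actInst : MulAction G (Fin n) := MulAction.compHom (Fin n) phi

theorem smul_eq (g : G) (i : Fin n) : g • i = phi g i := rfl

/-- the base point -/
def z0 : Fin n := ⟨0, by norm_num⟩

instance pretrans : IsPretransitive G (Fin n) := (isPretransitive_iff_base z0).mpr phi_trans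

/-! ## Primitivity -/

theorem gsH_lt : ∀ x ∈ gsH, x < 12 ∧ x ≠ 1 := by decide

theorem conn : ∀ i : Fin n, ∃ h ∈ H, ((phi h i : Fin n) : ℕ) = rep (Nat.land (Lb i) 3) := by
  refine OrbChk.conn_of_check Cfsg.Agent.Lib.H6.FiPerm.T Lb rep n phi H gsH ?_ okAt_all
  intro x hx
  obtain ⟨h1, h2⟩ := gsH_lt x hx
  exact ⟨E x, E_mem_H x h1 h2, phi_E_apply x h1⟩

/-- the points with a given label -/
def O (c : ℕ) : Set (Fin n) := {i | Nat.land (Lb i) 3 = c}

theorem rep_other (c : ℕ) (h1 : c ≠ 1) (h2 : c ≠ 2) : rep c = 0 := by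
  have e1 : Nat.beq c 1 = false := by
    cases h : Nat.beq c 1 with
    | false => rfl
    | true => exact absurd (Nat.eq_of_beq_eq_true h) h1
  have e2 : Nat.beq c 2 = false := by
    cases h : Nat.beq c 2 with
    | false => rfl
    | true => exact absurd (Nat.eq_of_beq_eq_true h) h2
  unfold rep
  rw [e1, e2]
  rfl

theorem cover : ∀ x : Fin n, x ≠ z0 → x ∈ O 1 ∨ x ∈ O 2 := by
  intro x hx
  by_contra hcon
  push Not at hcon
  obtain ⟨h, hh, e⟩ := conn x
  rw [rep_other _ hcon.1 hcon.2] at e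
  have e' : phi h x = z0 := Fin.ext e
  apply hx
  have h2 : phi h⁻¹ z0 = z0 := phi_H _ (inv_mem hh)
  rw [map_inv, Equiv.Perm.inv_eq_iff_eq] at h2
  exact (phi h).injective (e'.trans h2)

theorem trans_O (c : ℕ) : ∀ x ∈ O c, ∀ y ∈ O c, ∃ g : G, g • z0 = z0 ∧ g • x = y := by
  intro x hx y hy
  obtain ⟨h, hh, e⟩ := OrbChk.trans_of_conn Lb rep n phi H conn x y (hx.trans hy.symm)
  exact ⟨h, phi_H h hh, e⟩

set_option maxRecDepth 1000000 in
theorem lab_vals : Nat.land (Lb 4) 3 = 1 ∧ Nat.land (Lb 12) 3 = 2 ∧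
    Nat.land (Lb (Cfsg.Agent.Lib.H6.FiPerm.T 1 0)) 3 = 1 ∧
    Nat.land (Lb (Cfsg.Agent.Lib.H6.FiPerm.T 1 4)) 3 = 2 ∧
    Nat.land (Lb (Cfsg.Agent.Lib.H6.FiPerm.T 1 12)) 3 = 2 := by
  decide +kernel

theorem E1_smul (i : Fin n) :
    Nat.land (Lb ((E 1 • i : Fin n) : ℕ)) 3 = Nat.land (Lb (Cfsg.Agent.Lib.H6.FiPerm.T 1 i)) 3 := by
  rw [smul_eq, phi_E_apply 1 (by norm_num) i]

instance prim : IsPreprimitive G (Fin n) := by
  apply isPreprimitive_of_two_suborbits z0 (O 1) (O 2) cover (trans_O 1) (trans_O 2)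
  · refine ⟨E 1, z0, ⟨4, by norm_num⟩, Or.inl rfl, Or.inr lab_vals.1, Or.inr ?_, ?_⟩
    · show Nat.land (Lb ((E 1 • z0 : Fin n) : ℕ)) 3 = 1
      rw [E1_smul]
      exact lab_vals.2.2.1
    · show Nat.land (Lb ((E 1 • (⟨4, by norm_num⟩ : Fin n) : Fin n) : ℕ)) 3 = 2
      rw [E1_smul]
      exact lab_vals.2.2.2.1
  · refine ⟨E 1, ⟨12, by norm_num⟩, z0, Or.inr lab_vals.2.1, Or.inl rfl, Or.inr ?_, ?_⟩
    · show Nat.land (Lb ((E 1 • (⟨12, by norm_num⟩ : Fin n) : Fin n) : ℕ)) 3 = 2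
      rw [E1_smul]
      exact lab_vals.2.2.2.2
    · show Nat.land (Lb ((E 1 • z0 : Fin n) : ℕ)) 3 = 1
      rw [E1_smul]
      exact lab_vals.2.2.1

/-! ## The Iwasawa structure -/

theorem c_mem_T : E 0 ∈ Iwa.T (X := Fin n) z0 := by
  refine ⟨phi_H _ (E_mem_H 0 (by norm_num) (by norm_num)), fun q hq => ?_⟩
  have hqH : q ∈ H := H_index.2 q hq
  exact (c_comm_H q hqH).symm

theorem pow3_of_word {x y : G} (h : x * (y * (x * (y * (x * (y * 1))))) = 1) : (x * y) ^ 3 = 1 := by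
  rw [← h, pow_succ, pow_succ, pow_one]
  simp only [mul_assoc, mul_one]

theorem braid (x y : ℕ) (hw : [x, y, x, y, x, y] ∈ Cfsg.Agent.Lib.H6.FiGlue.relW) :
    ∃ g : G, g * E x * g⁻¹ = E y := by
  have h := ew_rel _ hw
  simp only [ew_cons, ew_nil] at h
  exact Iwa.isConj_of_braid (E_mul_self x) (E_mul_self y) (pow3_of_word h)

theorem conj_trans {a b c : G} (h1 : ∃ g : G, g * a * g⁻¹ = b) (h2 : ∃ g : G, g * b * g⁻¹ = c) :
    ∃ g : G, g * a * g⁻¹ = c := by
  obtain ⟨g, rfl⟩ := h1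
  obtain ⟨h, rfl⟩ := h2
  exact ⟨h * g, by group⟩

theorem cj0 : ∃ g : G, g * E 0 * g⁻¹ = E 0 := ⟨1, by group⟩
theorem cj1 : ∃ g : G, g * E 0 * g⁻¹ = E 1 := conj_trans cj0 (braid 0 1 (by decide))
theorem cj2 : ∃ g : G, g * E 0 * g⁻¹ = E 2 := conj_trans cj1 (braid 1 2 (by decide))
theorem cj3 : ∃ g : G, g * E 0 * g⁻¹ = E 3 := conj_trans cj2 (braid 2 3 (by decide))
theorem cj4 : ∃ g : G, g * E 0 * g⁻¹ = E 4 := conj_trans cj3 (braid 3 4 (by decide))
theorem cj5 : ∃ g : G, g * E 0 * g⁻¹ = E 5 := conj_trans cj4 (braid 4 5 (by decide))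
theorem cj6 : ∃ g : G, g * E 0 * g⁻¹ = E 6 := conj_trans cj5 (braid 5 6 (by decide))
theorem cj7 : ∃ g : G, g * E 0 * g⁻¹ = E 7 := conj_trans cj6 (braid 6 7 (by decide))
theorem cj8 : ∃ g : G, g * E 0 * g⁻¹ = E 8 := conj_trans cj7 (braid 7 8 (by decide))
theorem cj9 : ∃ g : G, g * E 0 * g⁻¹ = E 9 := conj_trans cj8 (braid 8 9 (by decide))
theorem cj10 : ∃ g : G, g * E 0 * g⁻¹ = E 10 := conj_trans cj5 (braid 5 10 (by decide))
theorem cj11 : ∃ g : G, g * E 0 * g⁻¹ = E 11 := conj_trans cj10 (braid 10 11 (by decide))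

theorem conj_all : ∀ s ∈ {g : G | ∃ x < 12, g = PresentedGroup.of (Cfsg.Agent.Lib.H6.FiGlue.gen x)},
    ∃ g : G, g * E 0 * g⁻¹ = s := by
  rintro _ ⟨x, hx, rfl⟩
  interval_cases x
  · exact cj0
  · exact cj1
  · exact cj2
  · exact cj3
  · exact cj4
  · exact cj5
  · exact cj6
  · exact cj7
  · exact cj8
  · exact cj9
  · exact cj10
  · exact cj11

theorem faithful : FaithfulSMul G (Fin n) :=
  ⟨fun {_ _} heq => phi_injective (Equiv.ext heq)⟩

/-- every normal subgroup is trivial or contains the derived subgroup -/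
theorem dich (K : Subgroup G) (hK : K.Normal) : K = ⊥ ∨ commutator G ≤ K := by
  have hgen := Iwa.iSup_T_eq_top (X := Fin n) _ Cfsg.Agent.Lib.H6.FiGlue.closure_gens z0 (E 0)
    c_mem_T conj_all
  exact dichotomy_of_iwasawa (Iwa.iwasawa hgen) faithful K hK

theorem not_square : ¬ IsSquare (Nat.card (commutator G)) := by
  rw [card_commutator]
  rintro ⟨r, hr⟩
  rcases Nat.lt_or_ge r 1120359633864 with h | h
  · have h1 : r ≤ 1120359633863 := by omega
    have : r * r ≤ 1120359633863 * 1120359633863 := Nat.mul_le_mul h1 h1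
    omega
  · have : 1120359633864 * 1120359633864 ≤ r * r := Nat.mul_le_mul h h
    omega

/-- **`Fi₂₄'` is simple** -/
theorem simple_commutator : IsSimpleGroup (commutator G) := by
  have := finite_G
  exact isSimpleGroup_commutator dich index_commutator not_square

end Cfsg.Agent.Lib.H17.Fi24S
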