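import Cfsg.Agent.Lib.H6.FiGlue

set_option autoImplicit false
set_option maxRecDepth 100000

/-! # Words in the generators of the presented `Fi₂₄` -/

namespace Cfsg.Agent.Lib.H17.Fi24S

open Cfsg.Agent.Lib.H17.CosetCert

/-- the presented group `Fi₂₄` -/
abbrev G : Type := Cfsg.Agent.Lib.H6.FiGlue.G

/-- the letters of `Fi₂₄`: `0 = l, 1 = k, 2 = a, …, 7 = f, 8 = g, 9 = j, 10 = h, 11 = i` -/
noncomputable def E (x : ℕ) : G := PresentedGroup.of (Cfsg.Agent.Lib.H6.FiGlue.gen x)

theorem E_mul_self (x : ℕ) : E x * E x = 1 := Cfsg.Agent.Lib.H6.FiGlue.of_mul_self _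

theorem E_inv (x : ℕ) : (E x)⁻¹ = E x := inv_eq_of_mul_eq_one_left (E_mul_self x)

/-- the element of a word -/
noncomputable def ew (L : List ℕ) : G := (L.map E).prod

theorem ew_nil : ew [] = 1 := rfl

theorem ew_cons (x : ℕ) (L : List ℕ) : ew (x :: L) = E x * ew L := by
  unfold ew
  rw [List.map_cons, List.prod_cons]

theorem ew_append (L1 L2 : List ℕ) : ew (L1 ++ L2) = ew L1 * ew L2 := by
  unfold ew
  rw [List.map_append, List.prod_append]

theorem ew_singleton (x : ℕ) : ew [x] = E x := by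
  rw [ew_cons, ew_nil, mul_one]

theorem ew_reverse (L : List ℕ) : ew L.reverse = (ew L)⁻¹ := by
  unfold ew
  rw [List.map_reverse]
  exact prod_reverse_of_invol E E_mul_self L

theorem ew_rel (w : List ℕ) (hw : w ∈ Cfsg.Agent.Lib.H6.FiGlue.relW) : ew w = 1 := by
  have := Cfsg.Agent.Lib.H6.FiGlue.relW_trivial w hw
  rw [List.map_map] at this
  exact this

theorem ew_replicate (m : ℕ) (u : List ℕ) : ew (List.replicate m u).flatten = ew u ^ m := by
  induction m with
  | zero => simp [ew_nil]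
  | succ m ih => rw [List.replicate_succ, List.flatten_cons, ew_append, ih, pow_succ']

/-- `l = (a b c d e f h)^9` -/
theorem ew_u : ew (List.replicate 9 [2, 3, 4, 5, 6, 7, 10]).flatten = E 0 := by
  have h1 : ew ([0] ++ (List.replicate 9 [10, 7, 6, 5, 4, 3, 2]).flatten) = 1 :=
    ew_rel _ (by decide)
  rw [ew_append, ew_singleton] at h1
  have h2 : (List.replicate 9 [2, 3, 4, 5, 6, 7, 10]).flatten =
      ((List.replicate 9 [10, 7, 6, 5, 4, 3, 2]).flatten).reverse := by decide
  rw [h2, ew_reverse]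
  have h3 : ew (List.replicate 9 [10, 7, 6, 5, 4, 3, 2]).flatten = (E 0)⁻¹ :=
    eq_inv_of_mul_eq_one_right h1
  rw [h3, inv_inv]

end Cfsg.Agent.Lib.H17.Fi24S
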