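import Cfsg.Agent.Lib.H17.Y522Ord.Order
import Cfsg.Agent.Lib.H17.Fi24S.Basic

set_option autoImplicit false
set_option maxRecDepth 100000

/-! # The spider relation holds in the presented `Fi₂₄`

The presentation of `Fi₂₄` has no spider relator; `(d c b d e f d h i)^10 = 1` is deduced in the
auxiliary group `Y522` (word problem on `1080` points) and transported along the obvious
homomorphism. -/

namespace Cfsg.Agent.Lib.H17.Fi24S

open Cfsg.Agent.Lib.H17.CosetCert

/-- the translation of the letters of `Y522` to those of `Fi₂₄` -/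
def τ (x : ℕ) : ℕ := [0, 1, 2, 3, 4, 5, 6, 7, 10, 11].getD x 0

/-- the derived relator `((a b c d e f h)^9 k)^3 = 1` -/
theorem ew_derived :
    ew (List.replicate 3 ((List.replicate 9 [2, 3, 4, 5, 6, 7, 10]).flatten ++ [1])).flatten = 1 := by
  rw [ew_replicate, ew_append, ew_u, ew_singleton]
  have h1 : ew [0, 1, 0, 1, 0, 1] = 1 := ew_rel _ (by decide)
  have h2 : ew [0, 1, 0, 1, 0, 1] = (E 0 * E 1) ^ 3 := by
    simp only [ew_cons, ew_nil, mul_one, pow_succ, pow_zero, one_mul, mul_assoc]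
  rw [← h2, h1]

/-- every relator word of `Y522` is trivial in `Fi₂₄` -/
theorem relW_τ : ∀ w ∈ Cfsg.Agent.Lib.H17.Y522Glue.relW, ew (w.map τ) = 1 := by
  have key : ∀ w ∈ Cfsg.Agent.Lib.H17.Y522Glue.relW,
      w.map τ ∈ Cfsg.Agent.Lib.H6.FiGlue.relW ∨ w = [] ∨ w.map τ =
        (List.replicate 3 ((List.replicate 9 [2, 3, 4, 5, 6, 7, 10]).flatten ++ [1])).flatten := by
    decide
  intro w hw
  rcases key w hw with h | rfl | h
  · exact ew_rel _ h
  · rfl
  · rw [h]
    exact ew_derived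

/-- the images of the generators of `Y522` -/
noncomputable def fY (u : Cfsg.Agent.Lib.H17.Y522Glue.Gen) : G :=
  E (τ (Cfsg.Agent.Lib.H17.Y522Glue.idx u))

theorem fY_mul_self (u : Cfsg.Agent.Lib.H17.Y522Glue.Gen) : fY u * fY u = 1 := E_mul_self _

theorem fY_rels : ∀ r ∈ Cfsg.Agent.Lib.H17.Y522Glue.rels, FreeGroup.lift fY r = 1 := by
  refine Cfsg.Agent.Lib.H17.Y522Glue.lift_rels fY fY_mul_self ?_
  intro w hw
  have h := relW_τ w hw
  unfold ew at h
  rw [List.map_map] at h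
  rw [List.map_map, ← h]
  congr 1
  apply List.map_congr_left
  intro x hx
  show E (τ (Cfsg.Agent.Lib.H17.Y522Glue.idx (Cfsg.Agent.Lib.H17.Y522Glue.gen x))) = E (τ x)
  have hlt : ∀ w ∈ Cfsg.Agent.Lib.H17.Y522Glue.relW, ∀ x ∈ w, x < 10 := by decide
  have hidx : ∀ x < 10, Cfsg.Agent.Lib.H17.Y522Glue.idx (Cfsg.Agent.Lib.H17.Y522Glue.gen x) = x := by
    decide
  rw [hidx x (hlt w hw x hx)]

/-- the homomorphism from `Y522` -/
noncomputable def ψY : Cfsg.Agent.Lib.H17.Y522Ord.G →* G :=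
  PresentedGroup.toGroup (f := fY) fY_rels

theorem ψY_e (L : List ℕ) (hL : ∀ x ∈ L, x < 10) :
    ψY (Cfsg.Agent.Lib.H17.Y522Ord.e L) = ew (L.map τ) := by
  induction L with
  | nil => simp [Cfsg.Agent.Lib.H17.Y522Ord.e, ew]
  | cons x L ih =>
    rw [Cfsg.Agent.Lib.H17.Y522Ord.e_cons, map_mul, ih (fun y hy => hL y (List.mem_cons_of_mem _ hy)),
      List.map_cons, ew_cons]
    congr 1
    unfold ψY
    rw [PresentedGroup.toGroup.of]
    show E (τ (Cfsg.Agent.Lib.H17.Y522Glue.idx (Cfsg.Agent.Lib.H17.Y522Glue.gen x))) = E (τ x)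
    have hidx : ∀ x < 10, Cfsg.Agent.Lib.H17.Y522Glue.idx (Cfsg.Agent.Lib.H17.Y522Glue.gen x) = x := by
      decide
    rw [hidx x (hL x List.mem_cons_self)]

/-- the spider word `(d c b d e f d h i)^10` in the letters of `Y522` -/
def spiderY : List ℕ := (List.replicate 10 [5, 4, 3, 5, 6, 7, 5, 8, 9]).flatten

theorem spiderY_one : Cfsg.Agent.Lib.H17.Y522Ord.e spiderY = 1 :=
  Cfsg.Agent.Lib.H17.Y522Ord.e_eq_one spiderY (by decide +kernel)

/-- **The spider relation** `(d c b d e f d h i)^10 = 1` in `Fi₂₄`. -/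
theorem spider : ew (List.replicate 10 [5, 4, 3, 5, 6, 7, 5, 10, 11]).flatten = 1 := by
  have h := ψY_e spiderY (by decide)
  rw [spiderY_one, map_one] at h
  have h2 : spiderY.map τ = (List.replicate 10 [5, 4, 3, 5, 6, 7, 5, 10, 11]).flatten := by decide
  rw [h2] at h
  exact h.symm

end Cfsg.Agent.Lib.H17.Fi24S
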