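import Cfsg.Agent.Lib.H17.Fi24S.Spider
import Cfsg.Agent.Lib.H17.Fi23Ord.Simple
import Cfsg.Agent.Lib.H6.FiIndex
import Cfsg.Agent.S1691

set_option autoImplicit false
set_option maxRecDepth 100000

/-!
# The subgroup `2 × Fi₂₃` of the presented `Fi₂₄`

The generators of `Fi₂₃`, each multiplied by the central involution `l`, satisfy the presentation
of `Fi₂₃` (the spider relation is deduced elsewhere); the image `H₀` of the resulting embedding has
index two in the subgroup `H` generated by all generators but `k`.  Hence the order of `Fi₂₄`, and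
the faithfulness of its action on `306936` points.
-/

namespace Cfsg.Agent.Lib.H17.Fi24S

open Cfsg.Agent.Lib.H6.FiIndex Cfsg.Agent.Lib.H6.PermTab

/-- the presented group `Fi₂₃` -/
abbrev G23 : Type := PresentedGroup Cfsg.Agent.Lib.H17.Fi23Glue.rels

theorem E_eq_e (x : ℕ) : E x = e x := rfl

/-! ## The action of the generators on the points -/

theorem eps_eq_sg (x : ℕ) (hx : x < 12) : eps x = sg x := by
  have h1 : eps x = (eps x)⁻¹ := eq_inv_of_mul_eq_one_left (eps_sq x hx)
  have h2 : (eps x)⁻¹ = sg x := by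
    unfold eps
    rw [inv_inv]
  rw [h1, h2]

theorem phi_E_apply (x : ℕ) (hx : x < 12) (i : Fin n) :
    ((phi (E x) i : Fin n) : ℕ) = Cfsg.Agent.Lib.H6.FiPerm.T x i := by
  rw [E_eq_e, phi_e x hx, eps_eq_sg x hx]
  exact σ_apply _ _ _ _ good x (by omega) i

set_option maxRecDepth 1000000 in
theorem T_vals : Cfsg.Agent.Lib.H6.FiPerm.T 0 1 = 2 ∧ Cfsg.Agent.Lib.H6.FiPerm.T 2 1 = 3 := by
  decide +kernel

theorem phi_E0_ne_one : phi (E 0) ≠ 1 := by
  intro h
  have h1 := phi_E_apply 0 (by norm_num) ⟨1, by norm_num⟩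
  rw [h, T_vals.1] at h1
  exact absurd h1 (by simp)

theorem phi_E2_ne_phi_E0 : phi (E 2) ≠ phi (E 0) := by
  intro h
  have h1 := phi_E_apply 0 (by norm_num) ⟨1, by norm_num⟩
  have h2 := phi_E_apply 2 (by norm_num) ⟨1, by norm_num⟩
  rw [h, h1, T_vals.1, T_vals.2] at h2
  exact absurd h2 (by norm_num)

/-! ## The central involution -/

/-- letters not adjacent to `l` commute with it -/
theorem comm_c (x : ℕ) (h2 : 2 ≤ x) (h12 : x < 12) : E x * E 0 = E 0 * E x := by
  have hmem : [0, x, 0, x] ∈ Cfsg.Agent.Lib.H6.FiGlue.relW := by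
    interval_cases x <;> decide
  have h := ew_rel _ hmem
  simp only [ew_cons, ew_nil, mul_one] at h
  have h' : (E 0 * E x) * (E 0 * E x) = 1 := by
    rw [← h]
    group
  have := eq_inv_of_mul_eq_one_left h'
  rw [mul_inv_rev, E_inv, E_inv] at this
  exact this.symm

theorem comm_ew (w : List ℕ) (hw : ∀ x ∈ w, 2 ≤ x ∧ x < 12) : ew w * E 0 = E 0 * ew w := by
  induction w with
  | nil => rw [ew_nil, one_mul, mul_one]
  | cons x w ih =>
    have hx := hw x List.mem_cons_self
    rw [ew_cons, mul_assoc, ih (fun y hy => hw y (List.mem_cons_of_mem _ hy)), ← mul_assoc,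
      comm_c x hx.1 hx.2, mul_assoc]

theorem E0_pow (m : ℕ) : (E 0) ^ m = (E 0) ^ (m % 2) := by
  conv_lhs => rw [← Nat.div_add_mod m 2, pow_add, pow_mul, pow_two, E_mul_self, one_pow, one_mul]

/-! ## The homomorphism from `Fi₂₃` -/

/-- the images of the generators of `Fi₂₃` -/
noncomputable def f23 (u : Cfsg.Agent.Lib.H17.Fi23Glue.Gen) : G :=
  E (Cfsg.Agent.Lib.H17.Fi23Glue.idx u + 2) * E 0

theorem f23_mul_self (u : Cfsg.Agent.Lib.H17.Fi23Glue.Gen) : f23 u * f23 u = 1 := by
  unfold f23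
  have h := comm_c (Cfsg.Agent.Lib.H17.Fi23Glue.idx u + 2) (by omega)
    (by have := Cfsg.Agent.Lib.H17.Fi23Glue.idx_lt u; omega)
  calc E (Cfsg.Agent.Lib.H17.Fi23Glue.idx u + 2) * E 0 *
        (E (Cfsg.Agent.Lib.H17.Fi23Glue.idx u + 2) * E 0)
      = E (Cfsg.Agent.Lib.H17.Fi23Glue.idx u + 2) * (E 0 *
          E (Cfsg.Agent.Lib.H17.Fi23Glue.idx u + 2)) * E 0 := by group
    _ = E (Cfsg.Agent.Lib.H17.Fi23Glue.idx u + 2) * (E (Cfsg.Agent.Lib.H17.Fi23Glue.idx u + 2) *
          E 0) * E 0 := by rw [h]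
    _ = (E (Cfsg.Agent.Lib.H17.Fi23Glue.idx u + 2) * E (Cfsg.Agent.Lib.H17.Fi23Glue.idx u + 2)) *
          (E 0 * E 0) := by group
    _ = 1 := by rw [E_mul_self, E_mul_self, one_mul]

theorem idx_gen23 : ∀ x < 10, Cfsg.Agent.Lib.H17.Fi23Glue.idx (Cfsg.Agent.Lib.H17.Fi23Glue.gen x) = x := by
  decide

theorem prod_f23 (w : List ℕ) (hw : ∀ x ∈ w, x < 10) :
    ((w.map Cfsg.Agent.Lib.H17.Fi23Glue.gen).map f23).prod =
      ew (w.map (· + 2)) * (E 0) ^ w.length := by
  induction w with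
  | nil => simp [ew_nil]
  | cons x w ih =>
    have hx := hw x List.mem_cons_self
    have hw' : ∀ y ∈ w, y < 10 := fun y hy => hw y (List.mem_cons_of_mem _ hy)
    have hcomm : ew (w.map (· + 2)) * E 0 = E 0 * ew (w.map (· + 2)) := by
      apply comm_ew
      intro y hy
      obtain ⟨z, hz, rfl⟩ := List.mem_map.mp hy
      have := hw' z hz
      omega
    rw [List.map_cons, List.map_cons, List.prod_cons, ih hw', List.map_cons, ew_cons,
      List.length_cons, pow_succ']
    unfold f23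
    rw [idx_gen23 x hx]
    calc E (x + 2) * E 0 * (ew (w.map (· + 2)) * E 0 ^ w.length)
        = E (x + 2) * (E 0 * ew (w.map (· + 2))) * E 0 ^ w.length := by group
      _ = E (x + 2) * (ew (w.map (· + 2)) * E 0) * E 0 ^ w.length := by rw [hcomm]
      _ = E (x + 2) * ew (w.map (· + 2)) * (E 0 * E 0 ^ w.length) := by group

/-- the spider word and the word `(a b c d e f h)^9` -/
def spW : List ℕ := (List.replicate 10 [5, 4, 3, 5, 6, 7, 5, 10, 11]).flatten

/-- the word `(a b c d e f h)^9` -/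
def uW9 : List ℕ := (List.replicate 9 [2, 3, 4, 5, 6, 7, 10]).flatten

theorem relW23_cases : ∀ w ∈ Cfsg.Agent.Lib.H17.Fi23Glue.relW,
    (w.map (· + 2) ∈ Cfsg.Agent.Lib.H6.FiGlue.relW ∧ w.length % 2 = 0) ∨ w = [] ∨
      (w.map (· + 2) = spW ∧ w.length % 2 = 0) ∨ (w.map (· + 2) = uW9 ∧ w.length % 2 = 1) := by
  decide

theorem relW23_lt : ∀ w ∈ Cfsg.Agent.Lib.H17.Fi23Glue.relW, ∀ x ∈ w, x < 10 := by decide

theorem f23_relW : ∀ w ∈ Cfsg.Agent.Lib.H17.Fi23Glue.relW,
    ((w.map Cfsg.Agent.Lib.H17.Fi23Glue.gen).map f23).prod = 1 := by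
  intro w hw
  rw [prod_f23 w (relW23_lt w hw), E0_pow]
  rcases relW23_cases w hw with ⟨h1, h2⟩ | rfl | ⟨h1, h2⟩ | ⟨h1, h2⟩
  · rw [ew_rel _ h1, h2, pow_zero, mul_one]
  · simp [ew_nil]
  · rw [h1, h2, pow_zero, mul_one]
    exact spider
  · rw [h1, h2, pow_one]
    unfold uW9
    rw [ew_u]
    exact E_mul_self 0

/-- the homomorphism from `Fi₂₃` -/
noncomputable def θ₀ : G23 →* G :=
  PresentedGroup.toGroup (f := f23)
    (Cfsg.Agent.Lib.H17.Fi23Glue.lift_rels f23 f23_mul_self f23_relW)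

theorem θ₀_of (u : Cfsg.Agent.Lib.H17.Fi23Glue.Gen) : θ₀ (PresentedGroup.of u) = f23 u := by
  unfold θ₀
  rw [PresentedGroup.toGroup.of]

/-! ## Simplicity of `Fi₂₃` at work -/

theorem injective_of_simple {S K : Type*} [Group S] [Group K] (hS : IsSimpleGroup S) (f : S →* K)
    (s : S) (hs : f s ≠ 1) : Function.Injective f := by
  rw [← MonoidHom.ker_eq_bot_iff]
  rcases (MonoidHom.normal_ker f).eq_bot_or_eq_top with h | h
  · exact h
  · exfalso
    apply hs
    have : s ∈ f.ker := by rw [h]; exact Subgroup.mem_top s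
    exact this

theorem center_eq_bot_of_simple {S : Type*} [Group S] (hS : IsSimpleGroup S)
    (hp : ¬ (Nat.card S).Prime) : Subgroup.center S = ⊥ := by
  rcases (inferInstance : (Subgroup.center S).Normal).eq_bot_or_eq_top with h | h
  · exact h
  · exfalso
    let _ : CommGroup S := Group.commGroupOfCenterEqTop h
    exact hp (IsSimpleGroup.prime_card (α := S))

theorem simple23 : IsSimpleGroup G23 := Cfsg.Agent.Lib.H17.Fi23Simple.simple

theorem card23 : Nat.card G23 = 4089470473293004800 := Cfsg.Agent.Lib.H17.Fi23Ord.card_eq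

theorem center23 : Subgroup.center G23 = ⊥ := by
  apply center_eq_bot_of_simple simple23
  rw [card23]
  norm_num

theorem phi_θ₀_a : phi (θ₀ (PresentedGroup.of Cfsg.Spor.Fi23.Gen.a)) ≠ 1 := by
  rw [θ₀_of]
  show phi (E 2 * E 0) ≠ 1
  intro h
  rw [map_mul] at h
  have h1 : phi (E 2) = (phi (E 0))⁻¹ := eq_inv_of_mul_eq_one_left h
  rw [← map_inv, E_inv] at h1
  exact phi_E2_ne_phi_E0 h1

theorem phi_θ₀_injective : Function.Injective (phi.comp θ₀) :=
  injective_of_simple simple23 _ (PresentedGroup.of Cfsg.Spor.Fi23.Gen.a) phi_θ₀_a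

theorem θ₀_injective : Function.Injective θ₀ := by
  intro x y hxy
  apply phi_θ₀_injective
  show phi (θ₀ x) = phi (θ₀ y)
  rw [hxy]

/-! ## The subgroup `H₀` -/

/-- the image of `Fi₂₃` -/
noncomputable def H₀ : Subgroup G := θ₀.range

theorem card_H₀ : Nat.card H₀ = 4089470473293004800 := by
  rw [← card23]
  exact (Nat.card_congr (MonoidHom.ofInjective θ₀_injective).toEquiv).symm

theorem gen_mul_c_mem (x : ℕ) (h2 : 2 ≤ x) (h12 : x < 12) : E x * E 0 ∈ H₀ := by
  refine ⟨PresentedGroup.of (Cfsg.Agent.Lib.H17.Fi23Glue.gen (x - 2)), ?_⟩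
  rw [θ₀_of]
  unfold f23
  rw [idx_gen23 (x - 2) (by omega)]
  have : x - 2 + 2 = x := by omega
  rw [this]

theorem E_mem_H (x : ℕ) (h1 : x < 12) (h2 : x ≠ 1) : E x ∈ H := e_mem_H h1 h2

theorem H₀_le_H : H₀ ≤ H := by
  rintro _ ⟨y, rfl⟩
  induction y using PresentedGroup.induction_on with
  | _ z =>
    induction z using FreeGroup.induction_on with
    | C1 => exact one_mem _
    | of u =>
      show θ₀ (PresentedGroup.of u) ∈ H
      rw [θ₀_of]
      unfold f23
      have := Cfsg.Agent.Lib.H17.Fi23Glue.idx_lt u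
      exact mul_mem (E_mem_H _ (by omega) (by omega)) (E_mem_H 0 (by norm_num) (by norm_num))
    | inv_of u ih =>
      rw [map_inv, map_inv]
      exact inv_mem ih
    | mul a b iha ihb =>
      rw [map_mul, map_mul]
      exact mul_mem iha ihb

/-- the sign homomorphism -/
noncomputable abbrev sgn : G →* ℤˣ := Cfsg.Agent.S1691.sgn

theorem sgn_E (x : ℕ) : sgn (E x) = -1 := Cfsg.Agent.S1691.sgn_of _

theorem sgn_H₀ : ∀ g ∈ H₀, sgn g = 1 := by
  rintro _ ⟨y, rfl⟩
  have : sgn.comp θ₀ = 1 := by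
    apply PresentedGroup.ext
    intro u
    show sgn (θ₀ (PresentedGroup.of u)) = 1
    rw [θ₀_of]
    unfold f23
    rw [map_mul, sgn_E, sgn_E]
    rfl
  exact DFunLike.congr_fun this y

theorem c_not_mem_H₀ : E 0 ∉ H₀ := by
  intro h
  have := sgn_H₀ _ h
  rw [sgn_E] at this
  exact absurd this (by decide)

/-- `l` is central in `H` -/
theorem c_comm_H : ∀ h ∈ H, h * E 0 = E 0 * h := by
  intro h hh
  induction hh using Subgroup.closure_induction with
  | mem g hg =>
    obtain ⟨x, h1, h2, rfl⟩ := hg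
    by_cases h0 : x = 0
    · subst h0; rfl
    · exact comm_c x (by omega) h1
  | one => rw [one_mul, mul_one]
  | mul a b _ _ ha hb => rw [mul_assoc, hb, ← mul_assoc, ha, mul_assoc]
  | inv a _ ha =>
    calc a⁻¹ * E 0 = a⁻¹ * (E 0 * a) * a⁻¹ := by group
      _ = a⁻¹ * (a * E 0) * a⁻¹ := by rw [ha]
      _ = E 0 * a⁻¹ := by group

theorem H_split : ∀ h ∈ H, h ∈ H₀ ∨ h * E 0 ∈ H₀ := by
  intro h hh
  induction hh using Subgroup.closure_induction with
  | mem g hg =>
    obtain ⟨x, h1, h2, rfl⟩ := hg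
    by_cases h0 : x = 0
    · subst h0
      right
      show E 0 * E 0 ∈ H₀
      rw [E_mul_self]
      exact one_mem _
    · right
      exact gen_mul_c_mem x (by omega) h1
  | one => exact Or.inl (one_mem _)
  | mul a b ha hb iha ihb =>
    have hcb := c_comm_H b hb
    rcases iha with iha | iha <;> rcases ihb with ihb | ihb
    · exact Or.inl (mul_mem iha ihb)
    · right
      rw [mul_assoc]
      exact mul_mem iha ihb
    · right
      have : a * b * E 0 = (a * E 0) * b := by rw [mul_assoc, hcb, ← mul_assoc]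
      rw [this]
      exact mul_mem iha ihb
    · left
      have : a * b = (a * E 0) * (b * E 0) := by
        rw [mul_assoc, ← mul_assoc (E 0), ← hcb, mul_assoc b, E_mul_self, mul_one]
      rw [this]
      exact mul_mem iha ihb
  | inv a ha iha =>
    have hca := c_comm_H a ha
    rcases iha with iha | iha
    · exact Or.inl (inv_mem iha)
    · right
      have hca' := c_comm_H a⁻¹ (inv_mem ha)
      have : a⁻¹ * E 0 = (a * E 0)⁻¹ := by rw [mul_inv_rev, E_inv, hca']
      rw [this]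
      exact inv_mem iha

theorem index_H₀ : (H₀.subgroupOf H).index = 2 := by
  rw [Subgroup.index_eq_two_iff]
  refine ⟨⟨E 0, E_mem_H 0 (by norm_num) (by norm_num)⟩, fun b => ?_⟩
  rw [Subgroup.mem_subgroupOf, Subgroup.mem_subgroupOf]
  show Xor ((b : G) * E 0 ∈ H₀) ((b : G) ∈ H₀)
  have hboth : (b : G) * E 0 ∈ H₀ → (b : G) ∈ H₀ → False := by
    intro h1 h2
    apply c_not_mem_H₀
    have : E 0 = (b : G)⁻¹ * ((b : G) * E 0) := by group
    rw [this]
    exact mul_mem (inv_mem h2) h1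
  rcases H_split b b.2 with h | h
  · exact Or.inr ⟨h, fun h' => hboth h' h⟩
  · exact Or.inl ⟨h, fun h' => hboth h h'⟩

theorem card_H : Nat.card H = 8178940946586009600 := by
  have h1 := Subgroup.card_mul_index (H₀.subgroupOf H)
  rw [index_H₀] at h1
  have h2 : Nat.card (H₀.subgroupOf H) = Nat.card H₀ :=
    Nat.card_congr (Subgroup.subgroupOfEquivOfLe H₀_le_H).toEquiv
  rw [h2, card_H₀] at h1
  rw [← h1]

/-- **the order of the presented `Fi₂₄`** -/
theorem card_G : Nat.card G = 2510411418381323442585600 := by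
  have h1 := Subgroup.card_mul_index H
  rw [card_H, H_index.1] at h1
  rw [← h1]

theorem finite_G : Finite G := Nat.finite_of_card_ne_zero (by rw [card_G]; norm_num)

theorem index_commutator : (commutator G).index = 2 := Cfsg.Agent.S1691.result

/-- **the order of `Fi₂₄'`** -/
theorem card_commutator : Nat.card (commutator G) = 1255205709190661721292800 := by
  have h1 := Subgroup.card_mul_index (commutator G)
  rw [index_commutator, card_G] at h1
  omega

/-! ## Faithfulness -/

theorem phi_injective : Function.Injective phi := by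
  rw [← MonoidHom.ker_eq_bot_iff, Subgroup.eq_bot_iff_forall]
  intro κ hκ
  have hκ1 : phi κ = 1 := hκ
  have hκH : κ ∈ H := H_index.2 κ (by rw [hκ1]; rfl)
  rcases H_split κ hκH with h | h
  · obtain ⟨y, rfl⟩ := h
    have : y = 1 := phi_θ₀_injective (by
      show phi (θ₀ y) = phi (θ₀ 1)
      rw [hκ1, map_one, map_one])
    rw [this, map_one]
  · exfalso
    obtain ⟨y, hy⟩ := h
    have h1 : phi (θ₀ y) = phi (E 0) := by rw [hy, map_mul, hκ1, one_mul]
    have hyc : y ∈ Subgroup.center G23 := by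
      rw [Subgroup.mem_center_iff]
      intro z
      apply phi_θ₀_injective
      show phi (θ₀ (z * y)) = phi (θ₀ (y * z))
      have hz : θ₀ z ∈ H := H₀_le_H ⟨z, rfl⟩
      rw [map_mul, map_mul, map_mul, map_mul, h1, ← map_mul, ← map_mul, c_comm_H _ hz]
    rw [center23, Subgroup.mem_bot] at hyc
    rw [hyc, map_one, map_one] at h1
    exact phi_E0_ne_one h1.symm

end Cfsg.Agent.Lib.H17.Fi24S
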